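import Cfsg.Agent.CoTwoThree.B.Aut.Codes
import Cfsg.Agent.U62Three.K.Extra
import Cfsg.Agent.U62Rec.Sp43
import Cfsg.Agent.Fi22Two.Inner
import Cfsg.Agent.Sp6Local.AutLocal

/-!
The centraliser of an inner involution of `Aut PSp(4,3)` whose centraliser has order divisible by nine.
-/

set_option autoImplicit false

open Subgroup

namespace Cfsg.Agent.CoTwoThree.AutCode

open Cfsg.Agent.PSp43Rec
open Cfsg.Agent.U62Three.K (Cover)

local notation "P43" => Cfsg.PSp 2 (ZMod 3)
local notation "A43" => MulAut (Cfsg.PSp 2 (ZMod 3))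

/-- The inner automorphisms. -/
abbrev iA : P43 →* A43 := MulAut.conj

/-- What the centraliser of `τ` looks like. -/
structure Shape {A : Type*} [Group A] (τ : A) where
  P : Subgroup A
  O : Subgroup A
  P_le : P ≤ centralizer ({τ} : Set A)
  O_le : O ≤ P
  cardC : Nat.card ↥(centralizer ({τ} : Set A)) = 1152
  cardP : Nat.card ↥P = 288
  cardO : Nat.card ↥O = 32
  normP : centralizer ({τ} : Set A) ≤ normalizer (P : Set A)
  normO : centralizer ({τ} : Set A) ≤ normalizer (O : Set A)
  cover : Cover τ O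
  only : ∀ g ∈ centralizer ({τ} : Set A), (∀ u ∈ P, g * u * g⁻¹ * u⁻¹ ∈ O) → g ∈ P

/-- A shape carried along an automorphism. -/
def Shape.map {A : Type*} [Group A] {τ : A} (S : Shape τ) (e : A ≃* A) : Shape (e τ) := by
  have hc : centralizer ({e τ} : Set A) = (centralizer ({τ} : Set A)).map e.toMonoidHom := by
    ext x
    rw [mem_map_equiv, mem_centralizer_singleton_iff, mem_centralizer_singleton_iff,
      ← e.injective.eq_iff (a := e.symm x * τ), map_mul, map_mul, MulEquiv.apply_symm_apply]
  have hn : ∀ H : Subgroup A, centralizer ({τ} : Set A) ≤ normalizer (H : Set A) →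
      (centralizer ({τ} : Set A)).map e.toMonoidHom ≤ normalizer ((H.map e.toMonoidHom : Subgroup A) : Set A) := by
    intro H hH
    exact (map_mono hH).trans (le_normalizer_map _)
  exact
  { P := S.P.map e.toMonoidHom
    O := S.O.map e.toMonoidHom
    P_le := hc ▸ map_mono S.P_le
    O_le := map_mono S.O_le
    cardC := by rw [hc, card_map_of_injective e.injective, S.cardC]
    cardP := by rw [card_map_of_injective e.injective, S.cardP]
    cardO := by rw [card_map_of_injective e.injective, S.cardO]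
    normP := hc ▸ hn _ S.normP
    normO := hc ▸ hn _ S.normO
    cover :=
      { mem := ⟨τ, S.cover.mem, rfl⟩
        sq := by
          rintro _ ⟨a, ha, rfl⟩
          rcases S.cover.sq a ha with h | h
          · exact Or.inl (by show e a * e a = 1; rw [← map_mul, h, map_one])
          · exact Or.inr (by show e a * e a = e τ; rw [← map_mul, h])
        central := by
          rintro _ ⟨a, ha, rfl⟩
          exact (S.cover.central a ha).map e.toMonoidHom
        centre := by
          rintro _ ⟨a, ha, rfl⟩ hall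
          rcases S.cover.centre a ha (fun b hb => by
            have := (hall _ ⟨b, hb, rfl⟩).map e.symm.toMonoidHom
            simpa using this) with h | h
          · exact Or.inl (by rw [h]; exact map_one e)
          · exact Or.inr (by rw [h]; rfl) }
    only := by
      intro g hg h
      rw [hc] at hg
      obtain ⟨g', hg', rfl⟩ := hg
      refine ⟨g', S.only g' hg' fun u hu => ?_, rfl⟩
      obtain ⟨o, ho, hoe⟩ := h _ ⟨u, hu, rfl⟩
      have : o = g' * u * g'⁻¹ * u⁻¹ := e.injective (by
        simpa using hoe)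
      exact this ▸ ho }

theorem fact_three : Fact (Nat.Prime 3) := ⟨Nat.prime_three⟩

attribute [local instance] fact_three

/-- The distinguished involution. -/
def dd : A43 := iA (codePSp 24)

/-- The diagonal automorphism. -/
def del : A43 := U62Rec.Sp43.delA

/-- The automorphism of a code. -/
def ev (a : ℕ) : A43 := iA (codePSp (a % 576)) * del ^ (a / 576)

theorem del_sq : del * del = 1 := U62Rec.Sp43.diag.sq

theorem del_code {x : ℕ} (hx : x < 576) : del (codePSp x) = codePSp (dC x) := by
  rw [codePSp, codePSp, dif_pos hx, dif_pos (dC_lt hx)]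
  show U62Rec.Sp43.delA (AutPSp.mkS _) = AutPSp.mkS _
  rw [U62Rec.Sp43.delA_mkS]
  refine U62Rec.Sp43.eqP ?_
  rw [U62Rec.Sp43.mat_del]
  exact codeMat_dC x hx

theorem del_conj (g : P43) : del * iA g = iA (del g) * del := by
  refine MulEquiv.ext fun x => ?_
  simp [iA, MulAut.conj_apply, map_mul, map_inv]

theorem ev_mul {a b : ℕ} (ha : a < 1152) (hb : b < 1152) : ev (mulE a b) = ev a * ev b := by
  have hpow : ∀ n : ℕ, del ^ n = del ^ (n % 2) := fun n => by
    conv_lhs => rw [← Nat.mod_add_div n 2]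
    rw [pow_add, pow_mul, pow_two, del_sq, one_pow, mul_one]
  rw [mulE]
  split
  · rename_i h
    have h1 := mulC_lt (x := a) (y := b % 576) (by omega) (by omega)
    rw [ev, ev, ev, show (mulC a (b % 576) + 576 * (b / 576)) % 576 = mulC a (b % 576) by omega,
      show (mulC a (b % 576) + 576 * (b / 576)) / 576 = b / 576 by omega, show a / 576 = 0 by omega,
      show a % 576 = a by omega, pow_zero, mul_one, codePSp_mul h (by omega), map_mul, mul_assoc]
  · rename_i h
    have h1 := mulC_lt (x := a - 576) (y := dC (b % 576)) (by omega) (dC_lt (by omega))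
    rw [ev, ev, ev, show (mulC (a - 576) (dC (b % 576)) + 576 * (1 - b / 576)) % 576
        = mulC (a - 576) (dC (b % 576)) by omega,
      show (mulC (a - 576) (dC (b % 576)) + 576 * (1 - b / 576)) / 576 = 1 - b / 576 by omega,
      show a / 576 = 1 by omega, show a % 576 = a - 576 by omega, pow_one,
      codePSp_mul (by omega) (dC_lt (by omega)), map_mul, ← del_code (by omega),
      mul_assoc (iA (codePSp (a - 576))) del, ← mul_assoc del, del_conj,
      mul_assoc (iA (del (codePSp (b % 576)))), ← pow_succ', hpow (b / 576 + 1),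
      show (b / 576 + 1) % 2 = 1 - b / 576 by omega, mul_assoc]

theorem ev_zero : ev 0 = 1 := by
  have h : codePSp 0 = 1 := pspFrame.f_zero
  rw [ev, show 0 % 576 = 0 from rfl, h, map_one, one_mul, show 0 / 576 = 0 from rfl, pow_zero]

theorem ev_inv {a : ℕ} (ha : a < 1152) : ev (invE a) = (ev a)⁻¹ := by
  obtain ⟨hi, he⟩ := inv_spec a ha
  exact (inv_eq_of_mul_eq_one_right (by rw [← ev_mul ha hi, he, ev_zero])).symm

theorem ev_24 : ev 24 = dd := by
  rw [ev, show 24 / 576 = 0 from rfl, pow_zero, mul_one]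
  rfl

theorem iA_inj : Function.Injective iA := Fi22Two.mulAut_psp.2.2.2.2

theorem ev_inj {a b : ℕ} (ha : a < 1152) (hb : b < 1152) (h : ev a = ev b) : a = b := by
  rw [ev, ev] at h
  rcases (show a / 576 = 0 ∨ a / 576 = 1 by omega) with e | e <;>
    rcases (show b / 576 = 0 ∨ b / 576 = 1 by omega) with f | f <;>
    simp only [e, f, pow_zero, pow_one, mul_one] at h
  · have := codePSp_inj (x := a % 576) (y := b % 576) (by omega) (by omega) (iA_inj h); omega
  · exfalso
    exact U62Rec.Sp43.diag.notInner ((codePSp (b % 576))⁻¹ * codePSp (a % 576))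
      (by show iA _ = del; rw [map_mul, map_inv, h, inv_mul_cancel_left])
  · exfalso
    exact U62Rec.Sp43.diag.notInner ((codePSp (a % 576))⁻¹ * codePSp (b % 576))
      (by show iA _ = del; rw [map_mul, map_inv, ← h, inv_mul_cancel_left])
  · have := codePSp_inj (x := a % 576) (y := b % 576) (by omega) (by omega) (iA_inj (mul_right_cancel h)); omega

theorem ev_comm {a : ℕ} (ha : a < 1152) : ev a * dd = dd * ev a := by
  rw [← ev_24, ← ev_mul ha (by norm_num), ← ev_mul (by norm_num) ha, central a ha]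

theorem ev_surj {α : A43} (h : α * dd = dd * α) : ∃ a < 1152, ev a = α := by
  obtain ⟨hcard, hcom, hidx, -, -⟩ := Fi22Two.mulAut_psp
  rw [hcom] at hidx
  have hdel : del ∉ (iA : P43 →* A43).range := fun ⟨g, hg⟩ => U62Rec.Sp43.diag.notInner g hg
  have hin : ∀ β : A43, β * dd = dd * β → β ∈ (iA : P43 →* A43).range → ∃ x < 576, iA (codePSp x) = β := by
    rintro _ hβ ⟨g, rfl⟩
    rw [dd, ← map_mul, ← map_mul] at hβ
    obtain ⟨x, hx, rfl⟩ := pspFrame.surj g (iA_inj hβ)
    exact ⟨x, hx, rfl⟩
  have hd : del * dd = dd * del := by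
    have h1 := ev_comm (a := 576) (by norm_num)
    rwa [ev, show 576 % 576 = 0 from rfl, show 576 / 576 = 1 from rfl, pow_one,
      show codePSp 0 = 1 from pspFrame.f_zero, map_one, one_mul] at h1
  by_cases hα : α ∈ (iA : P43 →* A43).range
  · obtain ⟨x, hx, rfl⟩ := hin α h hα
    exact ⟨x, by omega, by rw [ev, show x % 576 = x by omega, show x / 576 = 0 by omega, pow_zero, mul_one]⟩
  · obtain ⟨x, hx, hxe⟩ := hin (α * del)
      (by rw [mul_assoc, hd, ← mul_assoc, h, mul_assoc])
      ((Subgroup.mul_mem_iff_of_index_two hidx).2 (by simp [hα, hdel]))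
    refine ⟨x + 576, by omega, ?_⟩
    rw [ev, show (x + 576) % 576 = x by omega, show (x + 576) / 576 = 1 by omega, pow_one, hxe, mul_assoc,
      del_sq, mul_one]

/-- The subgroup given by a closed set of codes. -/
def codeSub (p : ℕ → Bool) (h0 : p 0 = true)
    (hc : ∀ a < 1152, p a = true → p (invE a) = true ∧ ∀ b < 1152, p b = true → p (mulE a b) = true) :
    Subgroup A43 where
  carrier := {α | ∃ a, a < 1152 ∧ p a = true ∧ ev a = α}
  one_mem' := ⟨0, by norm_num, h0, ev_zero⟩
  mul_mem' := by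
    rintro _ _ ⟨a, ha, hpa, rfl⟩ ⟨b, hb, hpb, rfl⟩
    exact ⟨_, mulE_lt ha hb, (hc a ha hpa).2 b hb hpb, ev_mul ha hb⟩
  inv_mem' := by
    rintro _ ⟨a, ha, hpa, rfl⟩
    exact ⟨_, (inv_spec a ha).1, (hc a ha hpa).1, ev_inv ha⟩

theorem card_codeSub {p : ℕ → Bool} {h0 : p 0 = true}
    {hc : ∀ a < 1152, p a = true → p (invE a) = true ∧ ∀ b < 1152, p b = true → p (mulE a b) = true} :
    Nat.card ↥(codeSub p h0 hc) = ((List.range 1152).filter p).length := by
  classical
  show Nat.card ↥{α | ∃ a, a < 1152 ∧ p a = true ∧ ev a = α} = _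
  rw [show {α | ∃ a, a < 1152 ∧ p a = true ∧ ev a = α} = ev '' ↑((List.range 1152).filter p).toFinset by
      ext α; simp [and_assoc],
    Nat.card_image_of_injOn, Nat.card_coe_set_eq, Set.ncard_coe_finset,
    List.toFinset_card_of_nodup (List.nodup_range.filter _)]
  intro x hx y hy hxy
  simp only [Finset.mem_coe, List.mem_toFinset, List.mem_filter, List.mem_range] at hx hy
  exact ev_inj hx.1 hy.1 hxy

theorem normalizer_codeSub {p : ℕ → Bool} {h0 : p 0 = true}
    {hc : ∀ a < 1152, p a = true → p (invE a) = true ∧ ∀ b < 1152, p b = true → p (mulE a b) = true}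
    (hn : ∀ g < 1152, ∀ a < 1152, p a = true → p (mulE (mulE g a) (invE g)) = true) :
    centralizer ({dd} : Set A43) ≤ normalizer ((codeSub p h0 hc : Subgroup A43) : Set A43) := by
  have key : ∀ γ ∈ centralizer ({dd} : Set A43), ∀ α ∈ codeSub p h0 hc, γ * α * γ⁻¹ ∈ codeSub p h0 hc := by
    rintro γ hγ _ ⟨a, ha, hpa, rfl⟩
    obtain ⟨g, hg, rfl⟩ := ev_surj (mem_centralizer_singleton_iff.1 hγ)
    exact ⟨_, mulE_lt (mulE_lt hg ha) (inv_spec g hg).1, hn g hg a ha hpa,
      by rw [ev_mul (mulE_lt hg ha) (inv_spec g hg).1, ev_mul hg ha, ev_inv hg]⟩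
  intro γ hγ
  rw [mem_normalizer_iff]
  refine fun α => ⟨key γ hγ α, fun h => ?_⟩
  have := key γ⁻¹ (inv_mem hγ) _ h
  rwa [show γ⁻¹ * (γ * α * γ⁻¹) * γ⁻¹⁻¹ = α by group] at this

theorem inP_zero : inP 0 = true := rfl

/-- The shape at the distinguished involution. -/
def shapeD : Shape dd where
  P := codeSub inP inP_zero closedP
  O := codeSub inO facts.2.2.1 closedO
  P_le := by
    rintro _ ⟨a, ha, -, rfl⟩
    exact mem_centralizer_singleton_iff.2 (ev_comm ha)
  O_le := fun _ ⟨a, ha, hp, h⟩ => ⟨a, ha, inO_inP hp, h⟩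
  cardC := by
    have e : centralizer ({dd} : Set A43) = codeSub (fun _ => true) rfl (fun _ _ _ => ⟨rfl, fun _ _ _ => rfl⟩) := by
      ext α
      rw [mem_centralizer_singleton_iff]
      exact ⟨fun h => by obtain ⟨a, ha, rfl⟩ := ev_surj h; exact ⟨a, ha, rfl, rfl⟩,
        fun ⟨a, ha, _, h⟩ => h ▸ ev_comm ha⟩
    rw [e, card_codeSub, List.filter_eq_self.2 (fun _ _ => rfl), List.length_range]
  cardP := card_codeSub.trans facts.1
  cardO := card_codeSub.trans facts.2.1
  normP := normalizer_codeSub normalP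
  normO := normalizer_codeSub normalO
  cover :=
    { mem := ⟨24, by norm_num, facts.2.2.2.1, ev_24⟩
      sq := by
        rintro _ ⟨a, ha, hp, rfl⟩
        rw [← ev_mul ha ha]
        rcases (cover a ha hp).1 with h | h <;> rw [h]
        · exact Or.inl ev_zero
        · exact Or.inr ev_24
      central := by
        rintro _ ⟨a, ha, -, rfl⟩
        exact ev_comm ha
      centre := by
        rintro _ ⟨a, ha, hp, rfl⟩ hall
        rcases (cover a ha hp).2 (fun b hb hb' => ev_inj (mulE_lt ha hb) (mulE_lt hb ha) (by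
          rw [ev_mul ha hb, ev_mul hb ha]; exact (hall _ ⟨b, hb, hb', rfl⟩).eq)) with h | h <;> rw [h]
        · exact Or.inl ev_zero
        · exact Or.inr ev_24 }
  only := by
    intro γ hγ h
    obtain ⟨g, hg, rfl⟩ := ev_surj (mem_centralizer_singleton_iff.1 hγ)
    have key : ∀ u, u < 1152 → inP u = true → inO (mulE (mulE (mulE g u) (invE g)) (invE u)) = true := by
      intro u hu hp
      obtain ⟨o, ho, hpo, hoe⟩ := h _ ⟨u, hu, hp, rfl⟩
      have hgi := (inv_spec g hg).1
      have hui := (inv_spec u hu).1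
      rw [← ev_inv hg, ← ev_inv hu, ← ev_mul hg hu, ← ev_mul (mulE_lt hg hu) hgi,
        ← ev_mul (mulE_lt (mulE_lt hg hu) hgi) hui] at hoe
      rwa [← ev_inj ho (mulE_lt (mulE_lt (mulE_lt hg hu) hgi) hui) hoe]
    obtain ⟨-, -, -, -, h1, h2⟩ := facts
    exact ⟨g, hg, only g hg (key u1 (by decide +kernel) h1) (key u2 (by decide +kernel) h2), rfl⟩

/-- An inner involution with centraliser of order divisible by nine is conjugate to the distinguished one. -/
theorem conj_of_inner (τ : A43) (h1 : τ ≠ 1) (h2 : τ * τ = 1) (hin : τ ∈ (iA : P43 →* A43).range)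
    (h9 : 9 ∣ Nat.card ↥(centralizer ({τ} : Set A43))) : ∃ c : A43, c * dd * c⁻¹ = τ := by
  obtain ⟨hcard, hcom, hidx, hsimp, -⟩ := Fi22Two.mulAut_psp
  rw [hcom] at hidx
  obtain ⟨g, hg⟩ := hin
  have hg1 : g ≠ 1 := fun e => h1 (by rw [← hg, e, map_one])
  have hg2 : g * g = 1 := iA_inj (by rw [map_mul, hg, h2, map_one])
  have hP : Nat.card P43 = 25920 := Sp6Local.card_psp
  have hG : ∀ H : Subgroup P43, H.index ≠ 2 := no_index_two_of_simple (by rw [hP]; norm_num)
  obtain ⟨F, hF⟩ := exists_good hG pspFrame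
  rcases hF.invol hg2 hg1 with hc | hc
  · obtain ⟨c, hc⟩ := isConj_iff.1 hc
    have e : MulAut.conj (iA c) dd = τ := by
      rw [MulAut.conj_apply, dd, ← map_inv, ← map_mul, ← map_mul, hc, hg]
    exact ⟨iA c, e⟩
  · exfalso
    obtain ⟨c, hc⟩ := isConj_iff.1 hc
    have h96 : Nat.card ↥(centralizer ({g} : Set P43)) = 96 := by
      have e : centralizer ({g} : Set P43) =
          (centralizer ({F.f 25} : Set P43)).map (MulAut.conj c).toMonoidHom := by
        ext x
        rw [mem_map_equiv, mem_centralizer_singleton_iff, mem_centralizer_singleton_iff, MulAut.conj_symm_apply,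
          ← hc]
        constructor <;> intro hx
        · calc c⁻¹ * x * c * F.f 25 = c⁻¹ * (x * (c * F.f 25 * c⁻¹)) * c := by group
            _ = c⁻¹ * (c * F.f 25 * c⁻¹ * x) * c := by rw [hx]
            _ = F.f 25 * (c⁻¹ * x * c) := by group
        · calc x * (c * F.f 25 * c⁻¹) = c * (c⁻¹ * x * c * F.f 25) * c⁻¹ := by group
            _ = c * (F.f 25 * (c⁻¹ * x * c)) * c⁻¹ := by rw [hx]
            _ = c * F.f 25 * c⁻¹ * x := by group
      rw [e, card_map_of_injective (MulAut.conj c).injective, hF.card_cent_u]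
    set C := centralizer ({τ} : Set A43)
    have hI : (centralizer ({g} : Set P43)).map (iA : P43 →* A43) = (iA : P43 →* A43).range ⊓ C := by
      ext α
      simp only [Subgroup.mem_map, Subgroup.mem_inf, MonoidHom.mem_range, C, mem_centralizer_singleton_iff]
      constructor
      · rintro ⟨x, hx, rfl⟩
        exact ⟨⟨x, rfl⟩, by rw [← hg, ← map_mul, ← map_mul, hx]⟩
      · rintro ⟨⟨x, rfl⟩, hx⟩
        exact ⟨x, iA_inj (by rw [map_mul, map_mul, hg]; exact hx), rfl⟩
    have hin : Nat.card ↥((iA : P43 →* A43).range ⊓ C : Subgroup A43) = 96 := by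
      rw [← hI, card_map_of_injective iA_inj, h96]
    have hsub := Subgroup.card_mul_index ((iA : P43 →* A43).range.subgroupOf C)
    have hle : (iA : P43 →* A43).range.relIndex C ∣ 2 := by
      have := Subgroup.relIndex_dvd_index_of_normal (H := (iA : P43 →* A43).range) C
      rwa [hidx] at this
    rw [← inf_subgroupOf_right] at hsub
    rw [Subgroup.relIndex, ← inf_subgroupOf_right] at hle
    rw [Nat.card_congr (subgroupOfEquivOfLe (inf_le_right (a := (iA : P43 →* A43).range) (b := C))).toEquiv,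
      hin] at hsub
    obtain ⟨m, hm⟩ := h9
    rw [hm] at hsub
    rcases (Nat.dvd_prime Nat.prime_two).1 hle with e | e <;> rw [e] at hsub <;> omega

/-- **An inner involution with centraliser of order divisible by nine.** -/
theorem exists_shape (τ : A43) (h1 : τ ≠ 1) (h2 : τ * τ = 1) (hsq : ∃ r, r * r = τ)
    (h9 : 9 ∣ Nat.card ↥(centralizer ({τ} : Set A43))) : Nonempty (Shape τ) := by
  obtain ⟨-, hcom, hidx, -, -⟩ := Fi22Two.mulAut_psp
  rw [hcom] at hidx
  obtain ⟨r, rfl⟩ := hsq
  obtain ⟨c, hc⟩ := conj_of_inner (r * r) h1 h2 ((Subgroup.mul_mem_iff_of_index_two hidx).2 Iff.rfl) h9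
  exact ⟨hc ▸ shapeD.map (MulAut.conj c)⟩

/-- An element of order three and a square root of the distinguished involution commute. -/
theorem pair_codes : ∃ u < 1152, ∃ r < 1152,
    mulE u (mulE u u) = 0 ∧ u ≠ 0 ∧ mulE r r = 24 ∧ mulE u r = mulE r u := by
  have h : ((List.range 1152).any fun r => mulE r r == 24 && mulE u1 r == mulE r u1) = true := by
    decide +kernel
  obtain ⟨r, hr, he⟩ := List.any_eq_true.1 h
  simp only [Bool.and_eq_true, beq_iff_eq] at he
  exact ⟨u1, by decide +kernel, r, List.mem_range.1 hr, by decide +kernel, by decide +kernel, he.1, he.2⟩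

/-- An inner involution with centraliser of order divisible by nine has a square root with a fixed element of
order three. -/
theorem inner_pair (τ : A43) (h1 : τ ≠ 1) (h2 : τ * τ = 1) (hin : τ ∈ (iA : P43 →* A43).range)
    (h9 : 9 ∣ Nat.card ↥(centralizer ({τ} : Set A43))) :
    Nat.card ↥(centralizer ({τ} : Set A43)) = 1152 ∧
      ∃ u r : A43, u ^ 3 = 1 ∧ u ≠ 1 ∧ r * r = τ ∧ Commute u r := by
  obtain ⟨c, hc⟩ := conj_of_inner τ h1 h2 hin h9
  refine ⟨(hc ▸ shapeD.map (MulAut.conj c) : Shape τ).cardC, ?_⟩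
  obtain ⟨u, hu, r, hr, hu3, hu0, hr2, hur⟩ := pair_codes
  refine ⟨MulAut.conj c (ev u), MulAut.conj c (ev r), ?_, ?_, ?_, ?_⟩
  · rw [← map_pow, pow_succ', pow_two, ← ev_mul hu hu, ← ev_mul hu (mulE_lt hu hu), hu3, ev_zero, map_one]
  · intro e
    rw [map_eq_one_iff _ (MulAut.conj c).injective, ← ev_zero] at e
    exact hu0 (ev_inj hu (by norm_num) e)
  · rw [← map_mul, ← ev_mul hr hr, hr2, ev_24, MulAut.conj_apply, hc]
  · exact (show Commute (ev u) (ev r) by rw [commute_iff_eq, ← ev_mul hu hr, hur, ev_mul hr hu]).map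
      (MulAut.conj c : A43 →* A43)

end Cfsg.Agent.CoTwoThree.AutCode
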