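import Cfsg.Agent.CoTwoThree.B.Aut.Model

/-!
An outer involution of `Aut PSp(4,3)` whose centraliser has order divisible by nine commutes with an
element of order five.
-/

set_option autoImplicit false
set_option maxRecDepth 100000

open Subgroup Matrix

namespace Cfsg.Agent.CoTwoThree.AutCode

open Cfsg.Agent.PSp43Rec

local notation "K3" => ZMod 3
local notation "M2" => Matrix (Fin 2) (Fin 2) (ZMod 3)
local notation "M4" => Matrix (Fin 2 ⊕ Fin 2) (Fin 2 ⊕ Fin 2) (ZMod 3)
local notation "Sp4" => Matrix.symplecticGroup (Fin 2) (ZMod 3)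
local notation "P43" => Cfsg.PSp 2 (ZMod 3)
local notation "A43" => MulAut (Cfsg.PSp 2 (ZMod 3))

attribute [local instance] fact_three

/-- The image in `PSp(4,3)`. -/
abbrev mq (X : Sp4) : P43 := QuotientGroup.mk X

theorem del_mq (X : Sp4) : ∃ Y : Sp4, (Y : M4) = delM * (X : M4) * delM ∧ del (mq X) = mq Y :=
  ⟨AutPSp.conjSp ⟨U62Rec.Sp43.delGL, U62Rec.Sp43.delGL_mem⟩ X, rfl, U62Rec.Sp43.delA_mkS X⟩

theorem mq_inv_negI : mq negI = 1 := (QuotientGroup.eq_one_iff negI).2 negI_central

/-- The matrix moving the second outer class to the diagonal automorphism. -/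
def sM : M4 := Matrix.fromBlocks !![1, 1; 0, 0] !![0, 0; 1, 2] !![0, 0; 1, 2] !![2, 2; 0, 0]

/-- An element of order five commuting with the third class. -/
def fM : M4 := Matrix.fromBlocks !![0, 0; 0, 0] !![0, 1; 1, 0] !![0, 2; 2, 0] !![1, 1; 2, 1]

theorem sM_mem : sM * Matrix.J (Fin 2) K3 * sMᵀ = Matrix.J (Fin 2) K3 := by decide +kernel

theorem fM_mem : fM * Matrix.J (Fin 2) K3 * fMᵀ = Matrix.J (Fin 2) K3 := by decide +kernel

theorem sM_eq : delM * sM * delM = sM * codeMat 1 ∨ delM * sM * delM = -(sM * codeMat 1) := by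
  decide +kernel

theorem fM_eq : fM * (fM * (fM * (fM * fM))) = 1 ∧ fM ≠ 1 ∧ fM ≠ -1 ∧
    (codeMat 25 * (delM * fM * delM) = fM * codeMat 25 ∨
      codeMat 25 * (delM * fM * delM) = -(fM * codeMat 25)) := by
  decide +kernel

theorem ev_outer {x : ℕ} (hx : x < 576) : ev (x + 576) = iA (codePSp x) * del := by
  rw [ev, show (x + 576) % 576 = x by omega, show (x + 576) / 576 = 1 by omega, pow_one]

/-- The second class is that of the diagonal automorphism. -/
theorem second : ∃ s : A43, s * ev 577 * s⁻¹ = del := by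
  let S : Sp4 := ⟨sM, SymplecticGroup.mem_iff.2 sM_mem⟩
  obtain ⟨Y, hY, hde⟩ := del_mq S
  refine ⟨iA (mq S), ?_⟩
  have h : mq S * codePSp 1 = del (mq S) := by
    rw [hde, codePSp, dif_pos (by norm_num)]
    refine (mk_eq_of_sign ?_).symm
    rw [hY]
    exact sM_eq
  rw [show 577 = 1 + 576 from rfl, ev_outer (by norm_num), ← mul_assoc (iA (mq S)), ← map_mul, h,
    ← del_conj, mul_inv_cancel_right]

/-- The third class centralises an element of order five. -/
theorem third : ∃ f : A43, orderOf f = 5 ∧ Commute f (ev 601) := by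
  have h5 : Fact (Nat.Prime 5) := ⟨by norm_num⟩
  let F : Sp4 := ⟨fM, SymplecticGroup.mem_iff.2 fM_mem⟩
  obtain ⟨Y, hY, hde⟩ := del_mq F
  obtain ⟨e5, e1, e2, ec⟩ := fM_eq
  refine ⟨iA (mq F), orderOf_eq_prime ?_ ?_, ?_⟩
  · rw [← map_pow, show mq F ^ 5 = mq (F ^ 5) from rfl,
      show F ^ 5 = 1 from Subtype.ext (by
        show fM ^ 5 = 1
        rw [← e5]; simp only [pow_succ, pow_zero, one_mul, mul_assoc])]
    exact map_one _
  · intro h
    rcases sign_of_mk (X := (1 : Sp4)) (Y := F) (iA_inj (h.trans (map_one _).symm)).symm with e | e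
    exacts [e1 e, e2 e]
  · have h : codePSp 25 * del (mq F) = mq F * codePSp 25 := by
      rw [hde, codePSp, dif_pos (by norm_num)]
      refine mk_eq_of_sign ?_
      show codeMat 25 * (Y : M4) = _ ∨ codeMat 25 * (Y : M4) = _
      rw [hY]
      exact ec
    rw [commute_iff_eq, show 601 = 25 + 576 from rfl, ev_outer (by norm_num), mul_assoc _ del, del_conj,
      ← mul_assoc, ← mul_assoc, ← map_mul, ← map_mul, h]

theorem blocks_sq : ∀ A : M2, A * A * A * (A * A * A) * (A * A * A) = 1 → A * A * A = 1 := by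
  decide +kernel

theorem blocks_pair : ∀ A B : M2, A * A * A = 1 → B * B * B = 1 → A ≠ 1 →
    (A * B = B * A ∨ A * B = -(B * A)) → B = 1 ∨ B = A ∨ B = A * A := by
  decide +kernel

/-- A lift of an element of order dividing nine fixed by the diagonal automorphism. -/
structure Lift (g : P43) (A : M2) : Prop where
  ex : ∃ (X : Sp4) (D : M2), mq X = g ∧ (X : M4) = Matrix.fromBlocks A 0 0 D
  cube : A * A * A = 1

theorem neg_self_zero {M : M2} (h : -M = M) : M = 0 :=
  Matrix.ext fun i j => entry_zero _ (by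
    have := congrFun (congrFun h i) j
    simpa using this)

theorem exists_lift {g : P43} (h9 : g ^ 9 = 1) (hd : del g = g) : ∃ A, Lift g A := by
  obtain ⟨X, rfl, hX⟩ : ∃ X : Sp4, mq X = g ∧ ((X : M4)) ^ 9 = 1 := by
    obtain ⟨X, rfl⟩ := QuotientGroup.mk_surjective g
    rcases sign_of_mk (X := (1 : Sp4)) (Y := X ^ 9) (h9.symm : mq 1 = mq X ^ 9) with e | e
    · exact ⟨X, rfl, by simpa using e⟩
    · refine ⟨X * negI, by rw [mq, QuotientGroup.mk_mul, show (QuotientGroup.mk negI : P43) = 1 from mq_inv_negI, mul_one], ?_⟩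
      have e' : (X : M4) ^ 9 = -1 := by simpa using e
      show ((X : M4) * (-1)) ^ 9 = 1
      rw [mul_neg_one, neg_pow, e']
      decide
  obtain ⟨Y, hY, hde⟩ := del_mq X
  rw [hde] at hd
  have hs := sign_of_mk hd
  set M := (X : M4) with hM
  obtain ⟨A, B, C, D, hb⟩ : ∃ A B C D : M2, M = Matrix.fromBlocks A B C D :=
    ⟨_, _, _, _, (Matrix.fromBlocks_toBlocks M).symm⟩
  have hc : delM * M * delM = Matrix.fromBlocks A (-B) (-C) D := by
    rw [hb, delM, Matrix.fromBlocks_multiply, Matrix.fromBlocks_multiply]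
    simp
  rw [hY, hc, hb] at hs
  rcases hs with e | e
  · obtain ⟨-, hB, hC, -⟩ := Matrix.fromBlocks_inj.1 e
    rw [neg_self_zero hB.symm, neg_self_zero hC.symm] at hb
    refine ⟨A, ⟨X, D, rfl, hb⟩, blocks_sq A ?_⟩
    have h := hX
    rw [hb, Matrix.fromBlocks_diagonal_pow, ← Matrix.fromBlocks_one] at h
    rw [← (Matrix.fromBlocks_inj.1 h).1]
    simp only [pow_succ, pow_zero, one_mul, mul_assoc]
  · exfalso
    rw [Matrix.fromBlocks_neg] at e
    obtain ⟨hA, -, -, hD⟩ := Matrix.fromBlocks_inj.1 e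
    rw [neg_self_zero hA.symm, neg_self_zero hD.symm] at hb
    have h2 : M * M = Matrix.fromBlocks (B * C) 0 0 (C * B) := by
      rw [hb, Matrix.fromBlocks_multiply]; simp
    have h := hX
    rw [show M ^ 9 = M * (M * M) ^ 4 by rw [← pow_two, ← pow_mul, ← pow_succ'], h2,
      Matrix.fromBlocks_diagonal_pow, hb, Matrix.fromBlocks_multiply, ← Matrix.fromBlocks_one] at h
    have := (Matrix.fromBlocks_inj.1 h).1
    simp at this

theorem lift_inv {X : Sp4} {A D : M2} (h : (X : M4) = Matrix.fromBlocks A 0 0 D) : A * Dᵀ = 1 := by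
  have h1 := SymplecticGroup.mem_iff.1 X.2
  rw [h, Matrix.J, Matrix.fromBlocks_transpose, Matrix.fromBlocks_multiply, Matrix.fromBlocks_multiply] at h1
  have := (Matrix.fromBlocks_inj.1 h1).2.1
  simpa using this

theorem lift_uniq {X Y : Sp4} {A D D' : M2} (hX : (X : M4) = Matrix.fromBlocks A 0 0 D)
    (hY : (Y : M4) = Matrix.fromBlocks A 0 0 D') : mq X = mq Y := by
  have h1 := lift_inv hX
  have h2 := lift_inv hY
  have : D = D' := Matrix.transpose_injective (by
    calc Dᵀ = (D'ᵀ * A) * Dᵀ := by rw [mul_eq_one_comm.1 h2, one_mul]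
      _ = D'ᵀ := by rw [mul_assoc, h1, mul_one])
  rw [mq, mq, Subtype.ext (hX.trans ((congrArg _ this).trans hY.symm))]

/-- The diagonal automorphism fixes no group of order nine. -/
theorem not_nine (T : Subgroup P43) (hT : Nat.card ↥T = 9) (hd : ∀ g ∈ T, del g = g) : False := by
  classical
  have h9 : ∀ g ∈ T, g ^ 9 = 1 := fun g hg => orderOf_dvd_iff_pow_eq_one.1 (by
    rw [← hT, ← Subgroup.orderOf_mk g hg]
    exact orderOf_dvd_natCard _)
  have : Nontrivial ↥T := Finite.one_lt_card_iff_nontrivial.1 (by rw [hT]; norm_num)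
  obtain ⟨⟨g, hg⟩, hg1⟩ := exists_ne (1 : ↥T)
  obtain ⟨A, ⟨X, D, rfl, hX⟩, hA⟩ := exists_lift (h9 g hg) (hd g hg)
  have hA1 : A ≠ 1 := fun e => hg1 (Subtype.ext (by
    show mq X = 1
    rw [e] at hX
    rw [lift_uniq hX (Y := (1 : Sp4)) (D' := 1) (by simp)]
    exact QuotientGroup.mk_one _))
  have hsub : ∀ h ∈ T, h ∈ ({1, mq X, mq X * mq X} : Finset P43) := by
    intro h hh
    obtain ⟨B, ⟨Y, D', rfl, hY⟩, hB⟩ := exists_lift (h9 h hh) (hd h hh)
    have hcomm : mq (X * Y) = mq (Y * X) := by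
      have := IsPGroup.commutative_of_card_eq_prime_sq (G := ↥T) (p := 3) (by rw [hT]; norm_num)
      exact congrArg Subtype.val (this ⟨_, hg⟩ ⟨_, hh⟩)
    have hs := sign_of_mk hcomm.symm
    rw [Submonoid.coe_mul, Submonoid.coe_mul, hX, hY, Matrix.fromBlocks_multiply, Matrix.fromBlocks_multiply] at hs
    simp only [Finset.mem_insert, Finset.mem_singleton]
    have hAB : A * B = B * A ∨ A * B = -(B * A) := by
      rcases hs with e | e
      · left; simpa using (Matrix.fromBlocks_inj.1 e).1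
      · right
        rw [Matrix.fromBlocks_neg] at e
        simpa using (Matrix.fromBlocks_inj.1 e).1
    rcases blocks_pair A B hA hB hA1 hAB with rfl | rfl | rfl
    · left
      rw [lift_uniq hY (Y := (1 : Sp4)) (D' := 1) (by simp)]
      exact QuotientGroup.mk_one _
    · exact Or.inr (Or.inl (lift_uniq hY hX))
    · refine Or.inr (Or.inr ?_)
      rw [lift_uniq hY (Y := X * X) (D' := D * D) (by
        rw [Submonoid.coe_mul, hX, Matrix.fromBlocks_multiply]; simp)]
      exact QuotientGroup.mk_mul _ _ _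
  have : Fintype ↥T := Fintype.ofFinite _
  have hle := Finset.card_le_card_of_injOn (s := (Finset.univ : Finset ↥T)) (fun h => (h : P43))
    (fun h _ => hsub h h.2) (Subtype.val_injective.injOn)
  rw [Finset.card_univ, ← Nat.card_eq_fintype_card, hT] at hle
  exact absurd (hle.trans Finset.card_le_three) (by norm_num)

theorem cent_del : ¬ 9 ∣ Nat.card ↥(centralizer ({del} : Set A43)) := by
  intro h
  obtain ⟨hcard, hcom, hidx, -, -⟩ := Fi22Two.mulAut_psp
  rw [hcom] at hidx
  obtain ⟨T, hT⟩ := Sylow.exists_subgroup_card_pow_prime 3 (n := 2)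
    (G := ↥(centralizer ({del} : Set A43))) h
  set T1 := T.map (centralizer ({del} : Set A43)).subtype with hT1
  have hT9 : Nat.card ↥T1 = 9 := by
    rw [card_map_of_injective (Subtype.val_injective), hT]; norm_num
  have hle : T1 ≤ (iA : P43 →* A43).range := by
    intro u hu
    have h9 : u ^ 9 = 1 := orderOf_dvd_iff_pow_eq_one.1 (by
      rw [← hT9, ← Subgroup.orderOf_mk u hu]
      exact orderOf_dvd_natCard _)
    have e : u = u ^ 5 * u ^ 5 := by rw [← pow_add, pow_succ, h9, one_mul]
    rw [e]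
    exact (Subgroup.mul_mem_iff_of_index_two hidx).2 Iff.rfl
  refine not_nine (T1.comap (iA : P43 →* A43)) ?_ fun g hg => ?_
  · rw [← card_map_of_injective iA_inj, map_comap_eq_self hle, hT9]
  · obtain ⟨⟨u, hu⟩, -, hue⟩ := hg
    rw [mem_centralizer_singleton_iff] at hu
    change u = iA g at hue
    rw [hue, del_conj] at hu
    exact (iA_inj (mul_right_cancel hu)).symm

theorem card_cent_conj {A : Type*} [Group A] (c x : A) :
    Nat.card ↥(centralizer ({c * x * c⁻¹} : Set A)) = Nat.card ↥(centralizer ({x} : Set A)) := by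
  have e : centralizer ({c * x * c⁻¹} : Set A) = (centralizer ({x} : Set A)).map (MulAut.conj c).toMonoidHom := by
    ext y
    rw [mem_map_equiv, mem_centralizer_singleton_iff, mem_centralizer_singleton_iff, MulAut.conj_symm_apply]
    constructor <;> intro hy
    · calc c⁻¹ * y * c * x = c⁻¹ * (y * (c * x * c⁻¹)) * c := by group
        _ = c⁻¹ * (c * x * c⁻¹ * y) * c := by rw [hy]
        _ = x * (c⁻¹ * y * c) := by group
    · calc y * (c * x * c⁻¹) = c * (c⁻¹ * y * c * x) * c⁻¹ := by group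
        _ = c * (x * (c⁻¹ * y * c)) * c⁻¹ := by rw [hy]
        _ = c * x * c⁻¹ * y := by group
  rw [e, card_map_of_injective (MulAut.conj c).injective]

/-- The classes of the outer involutions commuting with the distinguished one. -/
theorem odd_reps : ∀ a < 1152, 576 ≤ a → mulE a a = 0 →
    ∃ g < 1152, mulE (mulE g a) (invE g) ∈ [576, 577, 601] := by
  have h : ((List.range' 576 576).all fun a => mulE a a != 0 ||
      (List.range 1152).any fun g =>
        let c := mulE (mulE g a) (invE g)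
        c == 576 || c == 577 || c == 601) = true := by
    decide +kernel
  intro a ha h576 h0
  have := List.all_eq_true.1 h a (List.mem_range'.2 ⟨a - 576, by omega, by omega⟩)
  rw [h0, show ((0 : ℕ) != 0) = false from rfl, Bool.false_or] at this
  obtain ⟨g, hg, hc⟩ := List.any_eq_true.1 this
  refine ⟨g, List.mem_range.1 hg, ?_⟩
  simpa [or_assoc] using hc

/-- **An outer involution with centraliser of order divisible by nine.** -/
theorem outer_five (τ : A43) (hout : τ ∉ (iA : P43 →* A43).range) (h2 : τ * τ = 1)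
    (h9 : 9 ∣ Nat.card ↥(centralizer ({τ} : Set A43))) : ∃ f : A43, orderOf f = 5 ∧ Commute f τ := by
  classical
  have : Fact (Nat.Prime 2) := ⟨Nat.prime_two⟩
  obtain ⟨hcard, hcom, hidx, -, -⟩ := Fi22Two.mulAut_psp
  rw [hcom] at hidx
  have hn : (iA : P43 →* A43).range.Normal := Subgroup.normal_of_index_eq_two hidx
  have hfac : (51840 : ℕ).factorization 2 = 7 := by
    rw [show 51840 = 2 ^ 7 * 405 by norm_num, Nat.factorization_mul (by norm_num) (by norm_num),
      Nat.Prime.factorization_pow Nat.prime_two]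
    simp [Nat.factorization_eq_zero_of_not_dvd (show ¬ 2 ∣ 405 by norm_num)]
  have hC := shapeD.cardC
  obtain ⟨Q, hQ⟩ := Sylow.exists_subgroup_card_pow_prime 2 (n := 7)
    (G := ↥(centralizer ({dd} : Set A43))) (by rw [hC]; norm_num)
  let S0 : Sylow 2 A43 := Sylow.ofCard (Q.map (centralizer ({dd} : Set A43)).subtype) (by
    rw [card_map_of_injective (Subtype.val_injective), hQ, hcard, hfac])
  obtain ⟨S1, hS1⟩ := (IsPGroup.of_card_dvd_pow (p := 2) (n := 1) (by
    rw [Nat.card_zpowers, pow_one]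
    exact orderOf_dvd_of_pow_eq_one (by rw [pow_two, h2])) : IsPGroup 2 ↥(zpowers τ)).exists_le_sylow
  obtain ⟨c, hc⟩ := MulAction.exists_smul_eq A43 S1 S0
  have hmem : c * τ * c⁻¹ ∈ (S0 : Subgroup A43) := by
    rw [← hc]
    exact Subgroup.smul_mem_pointwise_smul τ (MulAut.conj c) _ (hS1 (mem_zpowers _))
  obtain ⟨⟨u, hu⟩, -, hue⟩ := hmem
  change u = c * τ * c⁻¹ at hue
  rw [mem_centralizer_singleton_iff] at hu
  obtain ⟨a, ha, hae⟩ := ev_surj hu
  rw [hue] at hae
  have h576 : 576 ≤ a := by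
    by_contra hlt
    refine hout ?_
    have : c * τ * c⁻¹ ∈ (iA : P43 →* A43).range := ⟨codePSp a, by
      rw [← hae, ev, show a % 576 = a by omega, show a / 576 = 0 by omega, pow_zero, mul_one]⟩
    have := hn.conj_mem _ this c⁻¹
    rwa [show c⁻¹ * (c * τ * c⁻¹) * c⁻¹⁻¹ = τ by group] at this
  have h0 : mulE a a = 0 := ev_inj (mulE_lt ha ha) (by norm_num) (by
    rw [ev_mul ha ha, hae, ev_zero, conj_mul, h2, mul_one, mul_inv_cancel])
  obtain ⟨g, hg, hr⟩ := odd_reps a ha h576 h0
  set r := mulE (mulE g a) (invE g) with hrdef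
  set d := ev g * c with hddef
  have hd : d * τ * d⁻¹ = ev r := by
    rw [hrdef, ev_mul (mulE_lt hg ha) (inv_spec g hg).1, ev_mul hg ha, ev_inv hg, hae, hddef]
    group
  have key : ∀ d' : A43, d' * τ * d'⁻¹ = del → False := fun d' e => cent_del (by
    rw [← e, card_cent_conj]; exact h9)
  simp only [List.mem_cons, List.not_mem_nil, or_false] at hr
  rcases hr with e | e | e
  · exfalso
    refine key d ?_
    rw [hd, e, show 576 = 0 + 576 from rfl, ev_outer (by norm_num), show codePSp 0 = 1 from pspFrame.f_zero,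
      map_one, one_mul]
  · exfalso
    obtain ⟨s, hs⟩ := second
    refine key (s * d) ?_
    rw [show s * d * τ * (s * d)⁻¹ = s * (d * τ * d⁻¹) * s⁻¹ by group, hd, e, hs]
  · obtain ⟨f, hf5, hfc⟩ := third
    rw [← e, ← hd] at hfc
    refine ⟨d⁻¹ * f * d, ?_, ?_⟩
    · rw [← hf5, ← orderOf_injective (MulAut.conj d).toMonoidHom (MulAut.conj d).injective]
      congr 1
      simp [mul_assoc]
    · have := hfc.map (MulAut.conj d⁻¹)
      simp only [MulAut.conj_apply, inv_inv] at this
      rwa [show d⁻¹ * (d * τ * d⁻¹) * d = τ by group] at this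

end Cfsg.Agent.CoTwoThree.AutCode
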